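import Mathlib

/-!
# Squarefree polynomials over algebraically closed fields through derivatives
-/

set_option autoImplicit false
set_option linter.all false
universe u

open MvPolynomial

namespace GrothLib.SqfreeForm

variable {k : Type u} [Field k] {σ : Type} [Fintype σ]

theorem totalDegree_pderiv_succ_le {P : MvPolynomial σ k} {i : σ} (h : pderiv i P ≠ 0) :
    (pderiv i P).totalDegree + 1 ≤ P.totalDegree := by
  classical
  obtain ⟨m, hm, hdeg⟩ := Finset.exists_mem_eq_sup (pderiv i P).support (support_nonempty.2 h)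
    (fun s => s.sum fun _ e => e)
  rw [totalDegree, hdeg]
  have hm' : m + Finsupp.single i 1 ∈ P.support := by
    rw [mem_support_iff] at hm ⊢
    rw [coeff_pderiv] at hm
    exact left_ne_zero_of_mul hm
  refine le_trans (le_of_eq ?_) (le_totalDegree hm')
  rw [Finsupp.sum_add_index' (fun _ => rfl) (fun _ _ _ => rfl), Finsupp.sum_single_index rfl]

theorem not_dvd_pderiv_of_ne_zero {P : MvPolynomial σ k} {i : σ} (h : pderiv i P ≠ 0) :
    ¬ P ∣ pderiv i P := fun hd => by
  have h1 := totalDegree_le_of_dvd_of_isDomain hd h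
  have h2 := totalDegree_pderiv_succ_le h
  omega

theorem exists_pderiv_ne_zero [IsAlgClosed k] {P : MvPolynomial σ k} (hP : Prime P) :
    ∃ i, pderiv i P ≠ 0 := by
  classical
  by_contra hcon
  push Not at hcon
  have hexp : ∀ e ∈ P.support, ∀ i, ((e i : ℕ) : k) = 0 := by
    intro e he i
    rcases Nat.eq_zero_or_pos (e i) with h0 | h0
    · simp [h0]
    · have h := congrArg (coeff (e - Finsupp.single i 1)) (hcon i)
      have hle : Finsupp.single i 1 ≤ e := by
        rw [Finsupp.single_le_iff]; omega
      rw [coeff_pderiv, coeff_zero, tsub_add_cancel_of_le hle] at h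
      have h' := (mul_eq_zero.1 h).resolve_left (mem_support_iff.1 he)
      have hcast : ((e - Finsupp.single i 1 : σ →₀ ℕ) i : ℕ) + 1 = e i := by
        simp; omega
      rw [← hcast, Nat.cast_add, Nat.cast_one]
      exact h'
  rcases CharP.char_is_prime_or_zero k (ringChar k) with hp | hp
  · haveI : Fact (ringChar k).Prime := ⟨hp⟩
    have hdvd : ∀ e ∈ P.support, ∀ i, ringChar k ∣ e i := fun e he i =>
      (CharP.cast_eq_zero_iff k (ringChar k) _).1 (hexp e he i)
    choose root hroot using fun c : k => IsAlgClosed.exists_pow_nat_eq c hp.pos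
    have : P = (∑ e ∈ P.support,
        monomial (Finsupp.mapRange (fun n => n / ringChar k) (Nat.zero_div _) e) (root (P.coeff e))) ^ ringChar k := by
      rw [sum_pow_char]
      conv_lhs => rw [as_sum P]
      refine Finset.sum_congr rfl fun e he => ?_
      rw [monomial_pow, hroot]
      congr 2
      ext i
      simp [Nat.mul_div_cancel' (hdvd e he i)]
    exact not_irreducible_pow hp.one_lt.ne' (this ▸ hP.irreducible)
  · haveI : CharZero k := by
      haveI : CharP k 0 := hp ▸ ringChar.charP k
      exact CharP.charP_to_charZero k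
    have hC : P = C (P.coeff 0) := by
      ext e
      rw [coeff_C]
      split
      · subst e; rfl
      · rename_i hne
        by_contra hc
        refine hne ?_
        ext i
        have := hexp e (mem_support_iff.2 hc) i
        simp [Nat.cast_eq_zero.1 this]
    refine hP.not_unit ?_
    rw [hC]
    refine (isUnit_iff_ne_zero.2 fun h0 => hP.ne_zero ?_).map C
    rw [hC, h0, map_zero]

/-- the combination of derivatives -/
noncomputable def dirD (c : σ → k) : MvPolynomial σ k →ₗ[k] MvPolynomial σ k :=
  ∑ i, c i • (pderiv i : Derivation k (MvPolynomial σ k) (MvPolynomial σ k)).toLinearMap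

theorem dirD_apply (c : σ → k) (F : MvPolynomial σ k) : dirD c F = ∑ i, c i • pderiv i F := by
  simp [dirD]

theorem dirD_totalDegree {F : MvPolynomial σ k} {d : ℕ} (hF : F.totalDegree ≤ d) (c : σ → k) :
    dirD c F = 0 ∨ (dirD c F).totalDegree + 1 ≤ d := by
  classical
  by_cases h : dirD c F = 0
  · exact Or.inl h
  · refine Or.inr ?_
    rw [dirD_apply] at h ⊢
    obtain ⟨i, -, hi⟩ := Finset.exists_ne_zero_of_sum_ne_zero h
    have h1 := totalDegree_pderiv_succ_le (right_ne_zero_of_smul hi)
    have h2 : (∑ j, c j • pderiv j F).totalDegree ≤ d - 1 := by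
      refine totalDegree_finsetSum_le fun j _ => ?_
      by_cases hj : pderiv j F = 0
      · simp [hj]
      · exact le_trans (totalDegree_smul_le _ _) (by have := totalDegree_pderiv_succ_le hj; omega)
    omega

/-- the map `(A, B) ↦ A F + B D_c F` on bounded degrees -/
noncomputable def bez (σ : Type) [Fintype σ] (k : Type u) [Field k] (d : ℕ) (c : σ → k) (F : MvPolynomial σ k) :
    (restrictTotalDegree σ k (d - 2) × restrictTotalDegree σ k (d - 1)) →ₗ[k] MvPolynomial σ k :=
  LinearMap.coprod ((LinearMap.mulRight k F).comp (restrictTotalDegree σ k (d - 2)).subtype)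
    ((LinearMap.mulRight k (dirD c F)).comp (restrictTotalDegree σ k (d - 1)).subtype)

theorem bez_apply (d : ℕ) (c : σ → k) (F : MvPolynomial σ k) (p) :
    bez σ k d c F p = p.1.1 * F + p.2.1 * dirD c F := rfl

theorem squarefree_iff_exists_injective [IsAlgClosed k] [Infinite k] {d : ℕ} (hd : 2 ≤ d)
    {F : MvPolynomial σ k} (hF : F.IsHomogeneous d) :
    Squarefree F ↔ ∃ c : σ → k, Function.Injective (bez σ k d c F) := by
  classical
  constructor
  · intro hsq
    have hF0 : F ≠ 0 := hsq.ne_zero
    let s := (UniqueFactorizationMonoid.factors F).toFinset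
    have hs : ∀ P ∈ s, Prime P ∧ P ∣ F := fun P hP => by
      rw [Multiset.mem_toFinset] at hP
      exact ⟨UniqueFactorizationMonoid.prime_of_factor P hP,
        UniqueFactorizationMonoid.dvd_of_mem_factors hP⟩
    let K : s → Submodule k (σ → k) := fun P =>
      Submodule.comap (∑ i, (LinearMap.proj i : (σ → k) →ₗ[k] k).smulRight (pderiv i F))
        (LinearMap.range (LinearMap.mulLeft k P.1))
    have hK : ∀ P, K P ≠ ⊤ := by
      rintro ⟨P, hP⟩ htop
      obtain ⟨hprime, Q, hQ⟩ := hs P hP
      obtain ⟨i, hi⟩ := exists_pderiv_ne_zero hprime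
      have hmem : (Pi.single i 1 : σ → k) ∈ K ⟨P, hP⟩ := htop ▸ Submodule.mem_top
      obtain ⟨R, hR⟩ := hmem
      have hR' : P * R = pderiv i F := by
        refine hR.trans ?_
        simp [Pi.single_apply]
      rw [hQ, pderiv_mul] at hR'
      have h1 : P ∣ pderiv i P * Q := ⟨R - pderiv i Q, by linear_combination -hR'⟩
      rcases hprime.dvd_or_dvd h1 with h | h
      · exact not_dvd_pderiv_of_ne_zero hi h
      · exact hprime.not_unit (hsq P (hQ ▸ mul_dvd_mul_left P h))
    obtain ⟨c, hc⟩ := Submodule.exists_forall_notMem_of_forall_ne_top K hK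
    refine ⟨c, (injective_iff_map_eq_zero _).2 fun p hp => ?_⟩
    rw [bez_apply] at hp
    have hrel : IsRelPrime F (dirD c F) := by
      rw [UniqueFactorizationMonoid.isRelPrime_iff_no_prime_factors hF0]
      intro P hPF hPG hP
      obtain ⟨q, hq, hqP⟩ := UniqueFactorizationMonoid.exists_mem_factors_of_dvd hF0 hP.irreducible hPF
      refine hc ⟨q, Multiset.mem_toFinset.2 hq⟩ ?_
      obtain ⟨R, hR⟩ := hqP.symm.dvd.trans hPG
      refine ⟨R, ?_⟩
      show q * R = _
      rw [← hR, dirD_apply]
      simp
    have hB : p.2.1 = 0 := by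
      by_contra hB0
      have hdvd : F ∣ p.2.1 * dirD c F := ⟨-p.1.1, by linear_combination hp⟩
      have hFB := hrel.dvd_of_dvd_mul_right hdvd
      have := totalDegree_le_of_dvd_of_isDomain hFB hB0
      rw [hF.totalDegree hF0] at this
      have := (mem_restrictTotalDegree _ _ _).1 p.2.2
      omega
    have hA : p.1.1 = 0 := by
      rw [hB, zero_mul, add_zero] at hp
      exact (mul_eq_zero.1 hp).resolve_right hF0
    exact Prod.ext (Subtype.ext hA) (Subtype.ext hB)
  · rintro ⟨c, hc⟩ P ⟨Q, hQ⟩
    by_contra hP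
    have hF0 : F ≠ 0 := by
      intro h0
      have : (⟨⟨1, by rw [mem_restrictTotalDegree]; simp⟩, 0⟩ :
          restrictTotalDegree σ k (d - 2) × restrictTotalDegree σ k (d - 1)) = 0 :=
        hc (by rw [map_zero, bez_apply, h0]; simp)
      exact one_ne_zero (congrArg Subtype.val (congrArg Prod.fst this))
    have hP0 : P ≠ 0 := fun h => hF0 (by rw [hQ, h]; simp)
    have hQ0 : Q ≠ 0 := fun h => hF0 (by rw [hQ, h]; simp)
    have hdegP : 1 ≤ P.totalDegree := by
      by_contra h
      obtain ⟨r, hr⟩ : ∃ r, P = C r := ⟨_, (totalDegree_eq_zero_iff_eq_C (p := P)).1 (by omega)⟩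
      refine hP ?_
      rw [hr] at hP0 ⊢
      exact (isUnit_iff_ne_zero.2 fun h0 => hP0 (by rw [h0, map_zero])).map C
    have hdeg : P.totalDegree + P.totalDegree + Q.totalDegree = d := by
      rw [← hF.totalDegree hF0, hQ, totalDegree_mul_of_isDomain (mul_ne_zero hP0 hP0) hQ0,
        totalDegree_mul_of_isDomain hP0 hP0]
    let G₁ := 2 * dirD c P * Q + P * dirD c Q
    have hG : dirD c F = P * G₁ := by
      simp only [G₁, dirD_apply, hQ, Finset.mul_sum, Finset.sum_mul, ← Finset.sum_add_distrib]
      refine Finset.sum_congr rfl fun i _ => ?_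
      rw [pderiv_mul, pderiv_mul, smul_eq_C_mul, smul_eq_C_mul, smul_eq_C_mul]
      ring
    have hPQ : P * Q ∈ restrictTotalDegree σ k (d - 1) := by
      rw [mem_restrictTotalDegree, totalDegree_mul_of_isDomain hP0 hQ0]
      omega
    by_cases hG0 : G₁ = 0
    · have h2 : (⟨0, ⟨P * Q, hPQ⟩⟩ :
          restrictTotalDegree σ k (d - 2) × restrictTotalDegree σ k (d - 1)) = 0 :=
        hc (by rw [map_zero, bez_apply, hG, hG0]; simp)
      exact mul_ne_zero hP0 hQ0 (congrArg Subtype.val (congrArg Prod.snd h2))
    · have hG' : dirD c F ≠ 0 := hG ▸ mul_ne_zero hP0 hG0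
      have h1 := (dirD_totalDegree (le_of_eq (hF.totalDegree hF0)) c).resolve_left hG'
      rw [hG, totalDegree_mul_of_isDomain hP0 hG0] at h1
      have hA : G₁ ∈ restrictTotalDegree σ k (d - 2) := by
        rw [mem_restrictTotalDegree]; omega
      have h2 : (⟨⟨G₁, hA⟩, ⟨-(P * Q), neg_mem hPQ⟩⟩ :
          restrictTotalDegree σ k (d - 2) × restrictTotalDegree σ k (d - 1)) = 0 :=
        hc (by rw [map_zero, bez_apply, hG, hQ]; simp; ring)
      exact hG0 (congrArg Subtype.val (congrArg Prod.fst h2))

/-- a polynomial function detecting injectivity of a family of linear maps -/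
theorem exists_det_function {V W E : Type u} [AddCommGroup V] [Module k V] [AddCommGroup W] [Module k W]
    [Module.Finite k W] [AddCommGroup E] [Module k E] (Φ : V →ₗ[k] W →ₗ[k] E) (v : V)
    (hv : Function.Injective (Φ v)) :
    ∃ f ∈ Algebra.adjoin k (Set.range (fun l : Module.Dual k V => (l : V → k))),
      f v ≠ 0 ∧ ∀ w, f w ≠ 0 → Function.Injective (Φ w) := by
  classical
  obtain ⟨B, hB⟩ := (Φ v).exists_leftInverse_of_injective (LinearMap.ker_eq_bot.2 hv)
  let b := Module.Free.chooseBasis k W
  let R := Algebra.adjoin k (Set.range (fun l : Module.Dual k V => (l : V → k)))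
  let L : Matrix (Module.Free.ChooseBasisIndex k W) (Module.Free.ChooseBasisIndex k W) R := fun i j =>
    ⟨fun w => b.coord i (B (Φ w (b j))),
      Algebra.subset_adjoin ⟨((b.coord i).comp B).comp (LinearMap.flip Φ (b j)), rfl⟩⟩
  have hval : ∀ w, (L.det : V → k) w = LinearMap.det (B.comp (Φ w)) := by
    intro w
    have h : ((Pi.evalRingHom (fun _ : V => k) w).comp R.val.toRingHom) L.det =
        (((Pi.evalRingHom (fun _ : V => k) w).comp R.val.toRingHom).mapMatrix L).det := RingHom.map_det _ _
    rw [← LinearMap.det_toMatrix b]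
    refine h.trans (congrArg Matrix.det ?_)
    ext i j
    rw [LinearMap.toMatrix_apply]; rfl
  refine ⟨(L.det : V → k), L.det.2, ?_, fun w hw => ?_⟩
  · rw [hval, hB, LinearMap.det_id]; exact one_ne_zero
  · have hb : Function.Injective (B.comp (Φ w)) := by
      rw [hval] at hw
      exact (LinearMap.equivOfDetNeZero _ hw).injective
    exact fun x y hxy => hb (by simp [hxy])

end GrothLib.SqfreeForm
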